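import Mathlib
import Groth.Prelude.Def_CAlgX
import Groth.Agent.S8773

universe u
open CategoryTheory

namespace Groth.Agent.Helper19.PureRes

variable {R : Type u} [CommRing R]

lemma rid_rTensor {A B : Type u} [AddCommGroup A] [Module R A] [AddCommGroup B]
    [Module R B] (f : A →ₗ[R] B) (t : TensorProduct R A R) :
    TensorProduct.rid R B (f.rTensor R t) = f (TensorProduct.rid R A t) := by
  induction t using TensorProduct.induction_on with
  | zero => simp
  | tmul a r => simp
  | add x y hx hy => simp [hx, hy]

lemma surjective_of_rTensor_self {A B : Type u} [AddCommGroup A] [Module R A] [AddCommGroup B]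
    [Module R B] (f : A →ₗ[R] B) (h : Function.Surjective (f.rTensor R)) :
    Function.Surjective f := by
  intro b
  obtain ⟨t, ht⟩ := h (TensorProduct.tmul R b (1 : R))
  refine ⟨TensorProduct.rid R A t, ?_⟩
  rw [← rid_rTensor, ht]
  simp

/-- exactness can be checked after tensoring with `R` -/
lemma exact_of_rTensor_self {A B C : Type u} [AddCommGroup A] [Module R A] [AddCommGroup B]
    [Module R B] [AddCommGroup C] [Module R C] (f : A →ₗ[R] B) (g : B →ₗ[R] C)
    (h : Function.Exact (f.rTensor R) (g.rTensor R)) : Function.Exact f g := by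
  have hrid : ∀ t : TensorProduct R A R, TensorProduct.rid R B (f.rTensor R t) =
      f (TensorProduct.rid R A t) := by
    intro t
    induction t using TensorProduct.induction_on with
    | zero => simp
    | tmul a r => simp
    | add x y hx hy => simp [hx, hy]
  intro b
  constructor
  · intro hb
    have h1 : g.rTensor R (TensorProduct.tmul R b (1 : R)) = 0 := by
      rw [LinearMap.rTensor_tmul, hb, TensorProduct.zero_tmul]
    obtain ⟨t, ht⟩ := (h _).mp h1
    refine ⟨TensorProduct.rid R A t, ?_⟩
    rw [← hrid, ht]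
    simp
  · rintro ⟨a, rfl⟩
    have h1 := (h (f.rTensor R (TensorProduct.tmul R a (1 : R)))).mpr ⟨_, rfl⟩
    rw [LinearMap.rTensor_tmul, LinearMap.rTensor_tmul] at h1
    have h2 := congrArg (TensorProduct.rid R C) h1
    simpa using h2

/-- the pure-projectivity property, in the form used by the statements -/
def PureProj (R : Type u) [CommRing R] (Q : Type u) [AddCommGroup Q] [Module R Q] : Prop :=
  ∀ ⦃L T : Type u⦄ [AddCommGroup L] [Module R L] [AddCommGroup T] [Module R T] (g : L →ₗ[R] T),
    Function.Surjective g → CAlgX.UniversallyInjective R (LinearMap.ker g).subtype →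
    ∀ φ : Q →ₗ[R] T, ∃ ψ : Q →ₗ[R] L, g ∘ₗ ψ = φ

/-- the basic lifting lemma -/
lemma lift {Q X' X Y Z W : Type u} [AddCommGroup Q] [Module R Q] [AddCommGroup X'] [Module R X']
    [AddCommGroup X] [Module R X]
    [AddCommGroup Y] [Module R Y] [AddCommGroup Z] [Module R Z] [AddCommGroup W] [Module R W]
    (hQ : PureProj R Q) (e : X' →ₗ[R] X) (f : X →ₗ[R] Y) (g : Y →ₗ[R] Z) (h : Z →ₗ[R] W)
    (hef : ∀ (T : Type u) [AddCommGroup T] [Module R T],
      Function.Exact (e.rTensor T) (f.rTensor T))
    (hfg : Function.Exact f g)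
    (hgh : Function.Exact g h) (a : Q →ₗ[R] Z) (ha : h ∘ₗ a = 0) :
    ∃ b : Q →ₗ[R] Y, g ∘ₗ b = a := by
  have hUI : CAlgX.UniversallyInjective R (LinearMap.range f).subtype :=
    Groth.Agent.S8773.result R e f hef
  have hker : LinearMap.ker g.rangeRestrict = LinearMap.range f := by
    rw [LinearMap.ker_rangeRestrict]
    exact (LinearMap.exact_iff.mp hfg)
  have hUI' : CAlgX.UniversallyInjective R (LinearMap.ker g.rangeRestrict).subtype := by
    rw [hker]
    exact hUI
  have hmem : ∀ q, a q ∈ LinearMap.range g := by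
    intro q
    have : h (a q) = 0 := by
      have := LinearMap.congr_fun ha q
      simpa using this
    exact (hgh (a q)).mp this
  obtain ⟨ψ, hψ⟩ := hQ g.rangeRestrict g.surjective_rangeRestrict hUI'
    (a.codRestrict (LinearMap.range g) hmem)
  refine ⟨ψ, ?_⟩
  ext q
  have := LinearMap.congr_fun hψ q
  have h2 := congrArg Subtype.val this
  simpa using h2

end Groth.Agent.Helper19.PureRes
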