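import Mathlib
import Groth.Agent.Lib.Helper19.Pure.Res

universe u
open CategoryTheory

namespace Groth.Agent.Helper19.PureRes

variable {R : Type u} [CommRing R]

/-- the pure-injectivity property, in the form used by the statements -/
def PureInj (R : Type u) [CommRing R] (J : Type u) [AddCommGroup J] [Module R J] : Prop :=
  ∀ ⦃K L : Type u⦄ [AddCommGroup K] [Module R K] [AddCommGroup L] [Module R L] (g : K →ₗ[R] L),
    CAlgX.UniversallyInjective R g → ∀ φ : K →ₗ[R] J, ∃ ψ : L →ₗ[R] J, ψ ∘ₗ g = φ

/-- the basic extension lemma -/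
lemma extend {J X Y Z : Type u} [AddCommGroup J] [Module R J] [AddCommGroup X] [Module R X]
    [AddCommGroup Y] [Module R Y] [AddCommGroup Z] [Module R Z]
    (hJ : PureInj R J) (f : X →ₗ[R] Y) (g : Y →ₗ[R] Z)
    (hfg : ∀ (T : Type u) [AddCommGroup T] [Module R T],
      Function.Exact (f.rTensor T) (g.rTensor T))
    (a : Y →ₗ[R] J) (ha : a ∘ₗ f = 0) :
    ∃ b : Z →ₗ[R] J, b ∘ₗ g = a := by
  have hUI : CAlgX.UniversallyInjective R (LinearMap.range g).subtype :=
    Groth.Agent.S8773.result R f g hfg
  have hfg0 : Function.Exact f g := exact_of_rTensor_self f g (hfg R)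
  have hle : LinearMap.ker g ≤ LinearMap.ker a := by
    intro y hy
    obtain ⟨x, rfl⟩ := (hfg0 y).mp hy
    have := LinearMap.congr_fun ha x
    simpa using this
  let abar : LinearMap.range g →ₗ[R] J :=
    ((LinearMap.ker g).liftQ a hle) ∘ₗ (g.quotKerEquivRange.symm : _ →ₗ[R] _)
  have habar : ∀ y, abar (g.rangeRestrict y) = a y := by
    intro y
    have h1 : g.quotKerEquivRange.symm (g.rangeRestrict y) = Submodule.Quotient.mk y := by
      rw [LinearEquiv.symm_apply_eq]
      rfl
    change ((LinearMap.ker g).liftQ a hle) (g.quotKerEquivRange.symm (g.rangeRestrict y)) = a y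
    rw [h1]
    rfl
  obtain ⟨b, hb⟩ := hJ (LinearMap.range g).subtype hUI abar
  refine ⟨b, ?_⟩
  ext y
  have := LinearMap.congr_fun hb (g.rangeRestrict y)
  rw [habar] at this
  exact this

section cochain

variable {M : ModuleCat.{u} R} (M' : CochainComplex (ModuleCat.{u} R) ℕ)
  (η : (CochainComplex.single₀ (ModuleCat.{u} R)).obj M ⟶ M')

/-- elementwise form of universal exactness of a coaugmented cochain complex -/
structure CoUE : Prop where
  succ : ∀ (T : Type u) [AddCommGroup T] [Module R T] (n : ℕ),
    Function.Exact ((M'.d n (n + 1)).hom.rTensor T) ((M'.d (n + 1) (n + 2)).hom.rTensor T)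
  zero : ∀ (T : Type u) [AddCommGroup T] [Module R T],
    Function.Exact ((η.f 0).hom.rTensor T) ((M'.d 0 1).hom.rTensor T)
  inj : ∀ (T : Type u) [AddCommGroup T] [Module R T],
    Function.Injective ((η.f 0).hom.rTensor T)

variable {M'} {η}

lemma coUE_of_quasiIso
    (h : ∀ T : ModuleCat.{u} R, QuasiIso (((MonoidalCategory.tensorRight T).mapHomologicalComplex
      (ComplexShape.up ℕ)).map η)) : CoUE M' η where
  succ T _ _ n := by
    have h1 := (h (ModuleCat.of R T)).quasiIsoAt (n + 1)
    rw [quasiIsoAt_iff_exactAt _ _ (by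
      apply ShortComplex.exact_of_isZero_X₂
      exact (MonoidalCategory.tensorRight (ModuleCat.of R T)).map_isZero
        (HomologicalComplex.isZero_single_obj_X _ _ _ _ (by simp)))] at h1
    rw [HomologicalComplex.exactAt_iff' _ n (n + 1) (n + 2) (by simp) (by simp)] at h1
    exact (ShortComplex.ShortExact.moduleCat_exact_iff_function_exact _).mp h1
  zero T _ _ := by
    have h0 := (h (ModuleCat.of R T)).quasiIsoAt 0
    rw [CochainComplex.quasiIsoAt₀_iff, ShortComplex.quasiIso_iff_of_zeros] at h0
    · exact (ShortComplex.ShortExact.moduleCat_exact_iff_function_exact _).mp h0.1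
    · simp
      first | rfl | exact MonoidalPreadditive.zero_whiskerRight
    · simp
      first | rfl | exact MonoidalPreadditive.zero_whiskerRight
    · simp
      first | rfl | exact MonoidalPreadditive.zero_whiskerRight
  inj T _ _ := by
    have h0 := (h (ModuleCat.of R T)).quasiIsoAt 0
    rw [CochainComplex.quasiIsoAt₀_iff, ShortComplex.quasiIso_iff_of_zeros] at h0
    · exact (ModuleCat.mono_iff_injective _).mp h0.2
    · simp
      first | rfl | exact MonoidalPreadditive.zero_whiskerRight
    · simp
      first | rfl | exact MonoidalPreadditive.zero_whiskerRight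
    · simp
      first | rfl | exact MonoidalPreadditive.zero_whiskerRight

end cochain

end Groth.Agent.Helper19.PureRes
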