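import Mathlib
import Groth.Agent.Lib.Helper19.Pure.CoRes

universe u
open CategoryTheory

namespace Groth.Agent.Helper19.PureRes

variable {R : Type u} [CommRing R]

section cochain

variable {M : ModuleCat.{u} R} {M' : CochainComplex (ModuleCat.{u} R) ℕ}
  {η : (CochainComplex.single₀ (ModuleCat.{u} R)).obj M ⟶ M'}
  (hUE : CoUE M' η) {J : ModuleCat.{u} R} (hJ : PureInj R J)

include hUE hJ in
lemma ext_base (c : ((CochainComplex.single₀ (ModuleCat.{u} R)).obj M).X 0 ⟶ J) :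
    ∃ b : M'.X 0 ⟶ J, η.f 0 ≫ b = c := by
  obtain ⟨b, hb⟩ := extend hJ
    (0 : ((CochainComplex.single₀ (ModuleCat.{u} R)).obj M).X 0 →ₗ[R] _) (η.f 0).hom
    (by
      intro T _ _ y
      constructor
      · intro hy
        refine ⟨0, ?_⟩
        rw [map_zero]
        exact (hUE.inj T (by rw [hy, map_zero])).symm
      · rintro ⟨x, rfl⟩
        rw [LinearMap.rTensor_zero, LinearMap.zero_apply, map_zero]) c.hom (LinearMap.comp_zero _)
  exact ⟨ModuleCat.ofHom b, ModuleCat.hom_ext hb⟩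

include hUE hJ in
lemma ext_zero (a : M'.X 0 ⟶ J) (ha : η.f 0 ≫ a = 0) :
    ∃ b : M'.X 1 ⟶ J, M'.d 0 1 ≫ b = a := by
  obtain ⟨b, hb⟩ := extend hJ (η.f 0).hom (M'.d 0 1).hom (fun T _ _ => hUE.zero T) a.hom (by
    rw [← ModuleCat.hom_comp, ha]
    rfl)
  exact ⟨ModuleCat.ofHom b, ModuleCat.hom_ext hb⟩

include hUE hJ in
lemma ext_succ (n : ℕ) (a : M'.X (n + 1) ⟶ J) (ha : M'.d n (n + 1) ≫ a = 0) :
    ∃ b : M'.X (n + 2) ⟶ J, M'.d (n + 1) (n + 2) ≫ b = a := by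
  obtain ⟨b, hb⟩ := extend hJ (M'.d n (n + 1)).hom (M'.d (n + 1) (n + 2)).hom
    (fun T _ _ => hUE.succ T n) a.hom (by
    rw [← ModuleCat.hom_comp, ha]
    rfl)
  exact ⟨ModuleCat.ofHom b, ModuleCat.hom_ext hb⟩

end cochain

section main

variable {M : ModuleCat.{u} R} {M' I : CochainComplex (ModuleCat.{u} R) ℕ}
  {η : (CochainComplex.single₀ (ModuleCat.{u} R)).obj M ⟶ M'}
  (hUE : CoUE M' η) (hI : ∀ n, PureInj R (I.X n))

include hUE hI in
theorem exists_cochainMap (g : (CochainComplex.single₀ (ModuleCat.{u} R)).obj M ⟶ I) :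
    ∃ φ : M' ⟶ I, η ≫ φ = g := by
  obtain ⟨z, hz⟩ := ext_base hUE (hI 0) (g.f 0)
  obtain ⟨o, ho⟩ := ext_zero hUE (hI 1) (z ≫ I.d 0 1) (by
    rw [← Category.assoc, hz, g.comm 0 1]
    simp only [CochainComplex.single₀_obj_zero, HomologicalComplex.single_obj_d]
    exact Limits.zero_comp)
  have hsucc : ∀ (n : ℕ) (p : Σ' (f : M'.X n ⟶ I.X n) (f' : M'.X (n + 1) ⟶ I.X (n + 1)),
      f ≫ I.d n (n + 1) = M'.d n (n + 1) ≫ f'),
      ∃ f'' : M'.X (n + 2) ⟶ I.X (n + 2),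
        p.2.1 ≫ I.d (n + 1) (n + 2) = M'.d (n + 1) (n + 2) ≫ f'' := fun n p => by
    obtain ⟨b, hb⟩ := ext_succ hUE (hI (n + 2)) n (p.2.1 ≫ I.d (n + 1) (n + 2)) (by
      rw [← Category.assoc, ← p.2.2, Category.assoc, I.d_comp_d, Limits.comp_zero])
    exact ⟨b, hb.symm⟩
  refine ⟨CochainComplex.mkHom M' I z o ho.symm
    (fun n p => ⟨(hsucc n p).choose, (hsucc n p).choose_spec⟩), ?_⟩
  apply HomologicalComplex.from_single_hom_ext
  rw [HomologicalComplex.comp_f, CochainComplex.mkHom_f_0, hz]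

include hUE hI in
theorem exists_cohomotopy_zero (e : M' ⟶ I) (he : η ≫ e = 0) : Nonempty (Homotopy e 0) := by
  obtain ⟨z, hz⟩ := ext_zero hUE (hI 0) (e.f 0) (by
    rw [← HomologicalComplex.comp_f, he]
    rfl)
  obtain ⟨o, ho⟩ := ext_succ hUE (hI 1) 0 (e.f 1 - z ≫ I.d 0 1) (by
    rw [Preadditive.comp_sub, ← Category.assoc, hz, ← e.comm 0 1, sub_self])
  have hsucc : ∀ (n : ℕ) (p : Σ' (f : M'.X (n + 1) ⟶ I.X n) (f' : M'.X (n + 2) ⟶ I.X (n + 1)),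
        e.f (n + 1) = f ≫ I.d n (n + 1) + M'.d (n + 1) (n + 2) ≫ f'),
      ∃ f'' : M'.X (n + 3) ⟶ I.X (n + 2),
        e.f (n + 2) = p.2.1 ≫ I.d (n + 1) (n + 2) + M'.d (n + 2) (n + 3) ≫ f'' := by
    rintro n ⟨p1, p2, p3⟩
    obtain ⟨f'', hf''⟩ := ext_succ hUE (hI (n + 2)) (n + 1)
      (e.f (n + 2) - p2 ≫ I.d (n + 1) (n + 2)) (by
        have h1 : M'.d (n + 1) (n + 2) ≫ p2 = e.f (n + 1) - p1 ≫ I.d n (n + 1) := by
          rw [p3]
          abel
        rw [Preadditive.comp_sub, ← Category.assoc, h1, Preadditive.sub_comp, Category.assoc,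
          I.d_comp_d, Limits.comp_zero, sub_zero, ← e.comm (n + 1) (n + 2), sub_self])
    refine ⟨f'', ?_⟩
    rw [hf'']
    abel
  exact ⟨Homotopy.mkCoinductive e z hz.symm o (by rw [ho]; abel)
    (fun n p => ⟨(hsucc n p).choose, (hsucc n p).choose_spec⟩)⟩

include hUE hI in
theorem exists_cohomotopy (α β : M' ⟶ I) (h : η ≫ α = η ≫ β) : Nonempty (Homotopy α β) := by
  obtain ⟨H⟩ := exists_cohomotopy_zero hUE hI (α - β) (by
    rw [Preadditive.comp_sub, h, sub_self])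
  exact ⟨Homotopy.equivSubZero.symm H⟩

end main

end Groth.Agent.Helper19.PureRes
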