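import Mathlib
import Groth.Prelude.Def_CAlgX

set_option autoImplicit false

namespace Groth.Agent.Helper19.Pure

open TensorProduct

universe u

section
variable {R : Type u} [CommRing R] {P M : Type u} [AddCommGroup P] [Module R P]
  [AddCommGroup M] [Module R M]

/-- lifting property for quotients of finite free modules by f.g. submodules -/
def LP (g : P →ₗ[R] M) : Prop :=
  ∀ (c : ℕ) (K' : Submodule R (Fin c → R)), K'.FG → ∀ φ : ((Fin c → R) ⧸ K') →ₗ[R] M,
    ∃ ψ : ((Fin c → R) ⧸ K') →ₗ[R] P, g ∘ₗ ψ = φ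

lemma key (g : P →ₗ[R] M) (hLP : LP g) {Q : Type u} [AddCommGroup Q] [Module R Q]
    {ι₁ : Type*} [Fintype ι₁] (k : ι₁ → LinearMap.ker g) (q : ι₁ → Q)
    (h : ∑ i, ((k i : LinearMap.ker g) : P) ⊗ₜ[R] q i = 0) :
    ∑ i, k i ⊗ₜ[R] q i = (0 : LinearMap.ker g ⊗[R] Q) := by
  classical
  set Q₀ : Submodule R Q := Submodule.span R (Set.range q) with hQ₀
  have hq : ∀ i, q i ∈ Q₀ := fun i => Submodule.subset_span ⟨i, rfl⟩
  have hQ₀fg : Q₀.FG := Submodule.fg_span (Set.finite_range q)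
  let t : Q₀ ⊗[R] P := ∑ i, (⟨q i, hq i⟩ : Q₀) ⊗ₜ[R] ((k i : LinearMap.ker g) : P)
  have ht : LinearMap.rTensor P Q₀.subtype t = 0 := by
    have h1 : LinearMap.rTensor P Q₀.subtype t =
        TensorProduct.comm R P Q (∑ i, ((k i : LinearMap.ker g) : P) ⊗ₜ[R] q i) := by
      simp only [t, map_sum, LinearMap.rTensor_tmul, Submodule.coe_subtype,
        TensorProduct.comm_tmul]
    rw [h1, h, map_zero]
  obtain ⟨Q₁, hQ₀₁, hQ₁fg, ht1⟩ := TensorProduct.eq_zero_of_fg_of_subtype_eq_zero hQ₀fg ht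
  haveI : Module.Finite R Q₁ := Module.Finite.iff_fg.mpr hQ₁fg
  obtain ⟨c, y, hy⟩ := Module.Finite.exists_fin (R := R) (M := Q₁)
  have hb' : ∀ i, ∃ b : Fin c → R, ∑ j, b j • y j = (⟨q i, hQ₀₁ (hq i)⟩ : Q₁) := fun i =>
    (Submodule.mem_span_range_iff_exists_fun R).1 (by rw [hy]; trivial)
  choose b hb using hb'
  let p : Fin c → LinearMap.ker g := fun j => ∑ i, b i j • k i
  have hpdef : ∀ j, p j = ∑ i, b i j • k i := fun j => rfl
  have hsum : ∑ j, y j ⊗ₜ[R] ((p j : LinearMap.ker g) : P) = (0 : Q₁ ⊗[R] P) := by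
    have h1 : LinearMap.rTensor P (Submodule.inclusion hQ₀₁) t =
        ∑ j, y j ⊗ₜ[R] ((p j : LinearMap.ker g) : P) := by
      have h2 : ∀ i, (Submodule.inclusion hQ₀₁) (⟨q i, hq i⟩ : Q₀) = ∑ j, b i j • y j := by
        intro i; rw [hb i]; rfl
      simp only [t, map_sum, LinearMap.rTensor_tmul]
      calc ∑ i, (Submodule.inclusion hQ₀₁ ⟨q i, hq i⟩) ⊗ₜ[R] ((k i : LinearMap.ker g) : P)
          = ∑ i, ∑ j, (b i j • y j) ⊗ₜ[R] ((k i : LinearMap.ker g) : P) := by
            apply Finset.sum_congr rfl; intro i _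
            rw [h2 i, TensorProduct.sum_tmul]
        _ = ∑ j, ∑ i, (b i j • y j) ⊗ₜ[R] ((k i : LinearMap.ker g) : P) := Finset.sum_comm
        _ = ∑ j, y j ⊗ₜ[R] ((p j : LinearMap.ker g) : P) := by
            apply Finset.sum_congr rfl; intro j _
            rw [hpdef j, Submodule.coe_sum, TensorProduct.tmul_sum]
            apply Finset.sum_congr rfl; intro i _
            rw [Submodule.coe_smul, TensorProduct.smul_tmul]
    rw [← h1, ht1]
  obtain ⟨κ, a, z, hz1', hz2⟩ := TensorProduct.vanishesTrivially_of_sum_tmul_eq_zero R hy hsum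
  have hz1 : ∀ j, ((p j : LinearMap.ker g) : P) = ∑ κ', a j κ' • z κ' := hz1'
  let K' : Submodule R (Fin κ → R) := Submodule.span R (Set.range (fun j : Fin c => a j))
  have hK'fg : K'.FG := Submodule.fg_span (Set.finite_range _)
  let φ₀ : (Fin κ → R) →ₗ[R] M := Fintype.linearCombination R (fun κ' => g (z κ'))
  have hφ₀ : K' ≤ LinearMap.ker φ₀ := by
    rw [Submodule.span_le]
    rintro _ ⟨j, rfl⟩
    change a j ∈ LinearMap.ker φ₀
    rw [LinearMap.mem_ker, Fintype.linearCombination_apply]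
    have h1 : g ((p j : LinearMap.ker g) : P) = 0 := LinearMap.mem_ker.1 (p j).2
    rw [hz1 j, map_sum] at h1
    rw [← h1]
    apply Finset.sum_congr rfl; intro κ' _
    rw [map_smul]
  obtain ⟨ψ, hψ⟩ := hLP κ K' hK'fg (K'.liftQ φ₀ hφ₀)
  let z' : Fin κ → P := fun κ' =>
    ψ (Submodule.Quotient.mk (fun j' => if κ' = j' then (1 : R) else 0))
  have hz'g : ∀ κ', g (z' κ') = g (z κ') := by
    intro κ'
    have h1 := LinearMap.congr_fun hψ
      (Submodule.Quotient.mk (fun j' => if κ' = j' then (1 : R) else 0))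
    rw [LinearMap.comp_apply, Submodule.liftQ_apply, Fintype.linearCombination_apply] at h1
    change g (ψ _) = _
    rw [h1]
    simp
  have hz'rel : ∀ j, ∑ κ', a j κ' • z' κ' = 0 := by
    intro j
    have h1 := LinearMap.pi_apply_eq_sum_univ (ψ ∘ₗ K'.mkQ) (a j)
    have h2 : (ψ ∘ₗ K'.mkQ) (a j) = 0 := by
      rw [LinearMap.comp_apply, Submodule.mkQ_apply,
        (Submodule.Quotient.mk_eq_zero K').2 (Submodule.subset_span ⟨j, rfl⟩), map_zero]
    rw [h2] at h1
    exact h1.symm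
  let k' : Fin κ → LinearMap.ker g := fun κ' => ⟨z κ' - z' κ', by
    rw [LinearMap.mem_ker, map_sub, hz'g, sub_self]⟩
  have hk' : ∀ κ', ((k' κ' : LinearMap.ker g) : P) = z κ' - z' κ' := fun κ' => rfl
  have hp : ∀ j, p j = ∑ κ', a j κ' • k' κ' := by
    intro j
    apply Subtype.ext
    rw [hz1 j, Submodule.coe_sum]
    have h1 : ∀ κ', ((a j κ' • k' κ' : LinearMap.ker g) : P) = a j κ' • z κ' - a j κ' • z' κ' := by
      intro κ'
      rw [Submodule.coe_smul, hk', smul_sub]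
    simp only [h1, Finset.sum_sub_distrib, hz'rel j, sub_zero]
  have hq' : ∀ i, q i = ∑ j, b i j • ((y j : Q₁) : Q) := by
    intro i
    have h1 := congrArg (Subtype.val) (hb i)
    simp only [Submodule.coe_sum, Submodule.coe_smul] at h1
    exact h1.symm
  have hyrel : ∀ κ', ∑ j, a j κ' • ((y j : Q₁) : Q) = 0 := by
    intro κ'
    have h1 := congrArg (Subtype.val) (hz2 κ')
    simpa only [Submodule.coe_sum, Submodule.coe_smul, Submodule.coe_zero] using h1
  calc ∑ i, k i ⊗ₜ[R] q i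
      = ∑ i, ∑ j, (b i j • k i) ⊗ₜ[R] ((y j : Q₁) : Q) := by
        apply Finset.sum_congr rfl; intro i _
        rw [hq' i, TensorProduct.tmul_sum]
        apply Finset.sum_congr rfl; intro j _
        rw [TensorProduct.smul_tmul]
    _ = ∑ j, ∑ i, (b i j • k i) ⊗ₜ[R] ((y j : Q₁) : Q) := Finset.sum_comm
    _ = ∑ j, p j ⊗ₜ[R] ((y j : Q₁) : Q) := by
        apply Finset.sum_congr rfl; intro j _
        rw [hpdef j, TensorProduct.sum_tmul]
    _ = ∑ j, ∑ κ', (k' κ') ⊗ₜ[R] (a j κ' • ((y j : Q₁) : Q)) := by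
        apply Finset.sum_congr rfl; intro j _
        rw [hp j, TensorProduct.sum_tmul]
        apply Finset.sum_congr rfl; intro κ' _
        rw [TensorProduct.smul_tmul]
    _ = ∑ κ', ∑ j, (k' κ') ⊗ₜ[R] (a j κ' • ((y j : Q₁) : Q)) := Finset.sum_comm
    _ = 0 := by
        apply Finset.sum_eq_zero; intro κ' _
        rw [← TensorProduct.tmul_sum, hyrel κ', TensorProduct.tmul_zero]

theorem univInj_of_LP (g : P →ₗ[R] M) (hLP : LP g) :
    CAlgX.UniversallyInjective R (LinearMap.ker g).subtype := by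
  intro Q _ _
  rw [injective_iff_map_eq_zero]
  intro x hx
  obtain ⟨s, rfl⟩ := TensorProduct.exists_finset x
  rw [← Finset.sum_coe_sort s (fun i => i.1 ⊗ₜ[R] i.2)] at hx ⊢
  apply key g hLP (fun i : s => i.1.1) (fun i : s => i.1.2)
  simpa only [map_sum, LinearMap.rTensor_tmul, Submodule.coe_subtype] using hx

end

/-- index type of the canonical pure cover -/
abbrev Idx (R M : Type u) [CommRing R] [AddCommGroup M] [Module R M] : Type u :=
  Σ (n : ℕ) (K : {K : Submodule R (Fin n → R) // K.FG}), (((Fin n → R) ⧸ K.1) →ₗ[R] M)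

/-- the summands -/
abbrev Qf (R M : Type u) [CommRing R] [AddCommGroup M] [Module R M] (i : Idx R M) : Type u :=
  (Fin i.1 → R) ⧸ i.2.1.1

lemma fp_quot {R : Type u} [CommRing R] {n : ℕ} (K : Submodule R (Fin n → R)) (hK : K.FG) :
    Module.FinitePresentation R ((Fin n → R) ⧸ K) :=
  Module.finitePresentation_of_free_of_surjective K.mkQ (Submodule.mkQ_surjective K)
    (by rw [Submodule.ker_mkQ]; exact hK)

theorem exists_pure_cover (R : Type u) [CommRing R] (M : Type u) [AddCommGroup M] [Module R M] :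
    ∃ (ι : Type u) (Q : ι → Type u) (_ : ∀ i, AddCommGroup (Q i)) (_ : ∀ i, Module R (Q i)),
      (∀ i, Module.FinitePresentation R (Q i)) ∧
      ∃ g : (Π₀ i, Q i) →ₗ[R] M, Function.Surjective g ∧
        CAlgX.UniversallyInjective R (LinearMap.ker g).subtype := by
  classical
  refine ⟨Idx R M, Qf R M, fun i => inferInstance, fun i => inferInstance, ?_, ?_⟩
  · intro i
    exact fp_quot i.2.1.1 i.2.1.2
  · refine ⟨DFinsupp.lsum ℕ (fun i : Idx R M => i.2.2), ?_, ?_⟩
    · intro m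
      let i₀ : Idx R M := ⟨1, ⟨⊥, Submodule.fg_bot⟩,
        (⊥ : Submodule R (Fin 1 → R)).liftQ
          (Fintype.linearCombination R (fun _ : Fin 1 => m)) bot_le⟩
      refine ⟨DFinsupp.single i₀ (Submodule.Quotient.mk (fun _ => 1)), ?_⟩
      rw [DFinsupp.lsum_single]
      change (⊥ : Submodule R (Fin 1 → R)).liftQ _ _ (Submodule.Quotient.mk (fun _ => 1)) = m
      rw [Submodule.liftQ_apply, Fintype.linearCombination_apply]
      simp
    · apply univInj_of_LP
      intro c K' hK' φ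
      let i₁ : Idx R M := ⟨c, ⟨K', hK'⟩, φ⟩
      refine ⟨(DFinsupp.lsingle i₁ : Qf R M i₁ →ₗ[R] Π₀ j, Qf R M j), ?_⟩
      apply LinearMap.ext
      intro v
      rw [LinearMap.comp_apply, DFinsupp.lsingle_apply, DFinsupp.lsum_single]

end Groth.Agent.Helper19.Pure
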