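import Mathlib
import Groth.Agent.S8772
import Groth.Agent.Lib.Helper19.Pure.CoRes

universe u
open CategoryTheory

namespace Groth.Agent.Helper19.PureRes

variable {R : Type u} [CommRing R]

/-- character modules are pure injective -/
lemma pureInj_characterModule (B : Type u) [AddCommGroup B] [Module R B] :
    PureInj R (CharacterModule B) := by
  intro K L _ _ _ _ g hg φ
  have hsurj := (rTensor_injective_iff_lcomp_surjective (B := B)).mp (hg B)
  obtain ⟨ψ, hψ⟩ := hsurj φ
  exact ⟨ψ, hψ⟩

/-- the double character module -/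
noncomputable def JJ (M : ModuleCat.{u} R) : ModuleCat.{u} R :=
  ModuleCat.of R (CharacterModule (CharacterModule M))

/-- the embedding -/
noncomputable def jj (M : ModuleCat.{u} R) : M ⟶ JJ M := ModuleCat.ofHom (PureExt.charEval R M)

/-- the cokernel of the embedding -/
noncomputable def cosyz (M : ModuleCat.{u} R) : ModuleCat.{u} R :=
  ModuleCat.of R (CharacterModule (CharacterModule M) ⧸ LinearMap.range (PureExt.charEval R M))

/-- the quotient map -/
noncomputable def cosyzπ (M : ModuleCat.{u} R) : JJ M ⟶ cosyz M :=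
  ModuleCat.ofHom (LinearMap.range (PureExt.charEval R M)).mkQ

lemma jj_cosyzπ (M : ModuleCat.{u} R) : jj M ≫ cosyzπ M = 0 := by
  ext x
  exact (Submodule.Quotient.mk_eq_zero _).mpr ⟨x, rfl⟩

/-- the iterated cosyzygies -/
noncomputable def C (M : ModuleCat.{u} R) : ℕ → ModuleCat.{u} R
  | 0 => M
  | n + 1 => cosyz (C M n)

/-- the differentials -/
noncomputable def cd (M : ModuleCat.{u} R) (n : ℕ) : JJ (C M n) ⟶ JJ (C M (n + 1)) :=
  cosyzπ (C M n) ≫ jj (C M (n + 1))

lemma jj_comp_cd (M : ModuleCat.{u} R) (n : ℕ) : jj (C M n) ≫ cd M n = 0 := by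
  unfold cd
  rw [← Category.assoc, jj_cosyzπ, Limits.zero_comp]

lemma cd_sq (M : ModuleCat.{u} R) (n : ℕ) : cd M n ≫ cd M (n + 1) = 0 := by
  have h : (cosyzπ (C M n) ≫ jj (C M (n + 1))) ≫ cd M (n + 1) = 0 := by
    rw [Category.assoc]
    exact (congrArg (fun t => cosyzπ (C M n) ≫ t) (jj_comp_cd M (n + 1))).trans Limits.comp_zero
  exact h

/-- the resolution complex -/
noncomputable def coresCx (M : ModuleCat.{u} R) : CochainComplex (ModuleCat.{u} R) ℕ :=
  CochainComplex.of (fun n => JJ (C M n)) (cd M) (cd_sq M)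

lemma coresCx_d (M : ModuleCat.{u} R) (n : ℕ) : (coresCx M).d n (n + 1) = cd M n :=
  CochainComplex.of_d (fun n => JJ (C M n)) (cd M) n

/-- the coaugmentation -/
noncomputable def coresη (M : ModuleCat.{u} R) :
    (CochainComplex.single₀ (ModuleCat.{u} R)).obj M ⟶ coresCx M :=
  (CochainComplex.fromSingle₀Equiv (coresCx M) M).symm ⟨jj M, by
    have h := jj_comp_cd M 0
    rw [← coresCx_d] at h
    exact h⟩

lemma coresη_f_zero (M : ModuleCat.{u} R) : (coresη M).f 0 = jj M := rfl

/-- the key exactness lemma -/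
lemma coexact_key {A' A B C' D T : Type u} [AddCommGroup A'] [Module R A'] [AddCommGroup A]
    [Module R A] [AddCommGroup B] [Module R B] [AddCommGroup C'] [Module R C']
    [AddCommGroup D] [Module R D] [AddCommGroup T] [Module R T]
    (s : A' →ₗ[R] A) (hs : Function.Surjective s) (e : A →ₗ[R] B) (q : B →ₗ[R] C')
    (heq : Function.Exact e q) (hq : Function.Surjective q) (i : C' →ₗ[R] D)
    (hi : Function.Injective (i.rTensor T)) :
    Function.Exact ((e ∘ₗ s).rTensor T) ((i ∘ₗ q).rTensor T) := by
  have h1 : Function.Exact (e.rTensor T) (q.rTensor T) := rTensor_exact T heq hq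
  have hs' : Function.Surjective (s.rTensor T) := LinearMap.rTensor_surjective T hs
  intro y
  rw [LinearMap.rTensor_comp, LinearMap.rTensor_comp]
  constructor
  · intro hy
    have : q.rTensor T y = 0 := hi (by rw [map_zero]; exact hy)
    obtain ⟨z, hz⟩ := (h1 y).mp this
    obtain ⟨w, rfl⟩ := hs' z
    exact ⟨w, hz⟩
  · rintro ⟨w, rfl⟩
    change i.rTensor T (q.rTensor T (e.rTensor T (s.rTensor T w))) = 0
    rw [(h1 _).mpr ⟨_, rfl⟩, map_zero]

lemma exact_charEval_mkQ (M : Type u) [AddCommGroup M] [Module R M] :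
    Function.Exact (PureExt.charEval R M) (LinearMap.range (PureExt.charEval R M)).mkQ := by
  rw [LinearMap.exact_iff, Submodule.ker_mkQ]

lemma cores_exact_succ (M : ModuleCat.{u} R) (T : Type u) [AddCommGroup T] [Module R T] (n : ℕ) :
    Function.Exact (((coresCx M).d n (n + 1)).hom.rTensor T)
      (((coresCx M).d (n + 1) (n + 2)).hom.rTensor T) := by
  rw [coresCx_d, coresCx_d]
  exact coexact_key (LinearMap.range (PureExt.charEval R (C M n))).mkQ
    (Submodule.mkQ_surjective (LinearMap.range (PureExt.charEval R (C M n))))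
    (PureExt.charEval R (C M (n + 1)))
    (LinearMap.range (PureExt.charEval R (C M (n + 1)))).mkQ (exact_charEval_mkQ (C M (n + 1)))
    (Submodule.mkQ_surjective (LinearMap.range (PureExt.charEval R (C M (n + 1)))))
    (PureExt.charEval R (C M (n + 2)))
    (Groth.Agent.S8772.result R (C M (n + 2)) T)

lemma cores_exact_zero (M : ModuleCat.{u} R) (T : Type u) [AddCommGroup T] [Module R T] :
    Function.Exact (((coresη M).f 0).hom.rTensor T) (((coresCx M).d 0 1).hom.rTensor T) := by
  rw [coresCx_d, coresη_f_zero]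
  have := coexact_key (T := T) (LinearMap.id : M →ₗ[R] M) Function.surjective_id
    (PureExt.charEval R M)
    (LinearMap.range (PureExt.charEval R M)).mkQ (exact_charEval_mkQ M)
    (Submodule.mkQ_surjective (LinearMap.range (PureExt.charEval R M))) (PureExt.charEval R (C M 1))
    (Groth.Agent.S8772.result R (C M 1) T)
  rw [LinearMap.comp_id] at this
  exact this

lemma cores_inj_zero (M : ModuleCat.{u} R) (T : Type u) [AddCommGroup T] [Module R T] :
    Function.Injective (((coresη M).f 0).hom.rTensor T) := by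
  rw [coresη_f_zero]
  exact Groth.Agent.S8772.result R M T

lemma coUE_cores (M : ModuleCat.{u} R) : CoUE (coresCx M) (coresη M) where
  succ T _ _ n := cores_exact_succ M T n
  zero T _ _ := cores_exact_zero M T
  inj T _ _ := cores_inj_zero M T

/-- converse of `coUE_of_quasiIso` -/
lemma quasiIso_of_coUE {M : ModuleCat.{u} R} {M' : CochainComplex (ModuleCat.{u} R) ℕ}
    {η : (CochainComplex.single₀ (ModuleCat.{u} R)).obj M ⟶ M'} (h : CoUE M' η)
    (T : ModuleCat.{u} R) :
    QuasiIso (((MonoidalCategory.tensorRight T).mapHomologicalComplex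
      (ComplexShape.up ℕ)).map η) := by
  refine ⟨fun n => ?_⟩
  cases n with
  | zero =>
    rw [CochainComplex.quasiIsoAt₀_iff, ShortComplex.quasiIso_iff_of_zeros]
    · refine ⟨(ShortComplex.ShortExact.moduleCat_exact_iff_function_exact _).mpr (h.zero T), ?_⟩
      exact (ModuleCat.mono_iff_injective _).mpr (h.inj T)
    · simp
      first | rfl | exact MonoidalPreadditive.zero_whiskerRight
    · simp
      first | rfl | exact MonoidalPreadditive.zero_whiskerRight
    · simp
      first | rfl | exact MonoidalPreadditive.zero_whiskerRight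
  | succ n =>
    rw [quasiIsoAt_iff_exactAt _ _ (by
      apply ShortComplex.exact_of_isZero_X₂
      exact (MonoidalCategory.tensorRight T).map_isZero
        (HomologicalComplex.isZero_single_obj_X _ _ _ _ (by simp)))]
    rw [HomologicalComplex.exactAt_iff' _ n (n + 1) (n + 2) (by simp) (by simp)]
    exact (ShortComplex.ShortExact.moduleCat_exact_iff_function_exact _).mpr (h.succ T n)

end Groth.Agent.Helper19.PureRes
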