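import Mathlib
import Groth.Prelude.Def_CAlgX
import Groth.Agent.Lib.Helper19.Pure.Cover

set_option autoImplicit false

namespace Groth.Agent.Helper19.Pure

open TensorProduct

universe u

section
variable {R : Type u} [CommRing R]

lemma fpq_lift {L N : Type u} [AddCommGroup L] [Module R L] [AddCommGroup N] [Module R N]
    (g : L →ₗ[R] N) (hg : Function.Surjective g)
    (hpure : CAlgX.UniversallyInjective R (LinearMap.ker g).subtype)
    {n c : ℕ} (a : Fin c → Fin n → R) (K₀ : Submodule R (Fin n → R))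
    (hK₀ : K₀ = Submodule.span R (Set.range a))
    (φ : ((Fin n → R) ⧸ K₀) →ₗ[R] N) :
    ∃ ψ : ((Fin n → R) ⧸ K₀) →ₗ[R] L, g ∘ₗ ψ = φ := by
  classical
  have hℓ' : ∀ β : Fin n, ∃ l : L,
      g l = φ (Submodule.Quotient.mk (fun j => if β = j then (1 : R) else 0)) := fun β => hg _
  choose ℓ hℓ using hℓ'
  have hφexp : ∀ v : Fin n → R, φ (Submodule.Quotient.mk v) = ∑ β, v β • g (ℓ β) := by
    intro v
    have h1 := LinearMap.pi_apply_eq_sum_univ (φ ∘ₗ K₀.mkQ) v
    simp only [LinearMap.comp_apply, Submodule.mkQ_apply] at h1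
    rw [h1]
    apply Finset.sum_congr rfl; intro β _
    rw [hℓ β]
  have hκmem : ∀ j, ∑ β, a j β • ℓ β ∈ LinearMap.ker g := by
    intro j
    rw [LinearMap.mem_ker, map_sum]
    have h1 := hφexp (a j)
    rw [(Submodule.Quotient.mk_eq_zero K₀).2 (by rw [hK₀]; exact Submodule.subset_span ⟨j, rfl⟩),
      map_zero] at h1
    rw [h1]
    apply Finset.sum_congr rfl; intro β _
    rw [map_smul]
  let κ' : Fin c → LinearMap.ker g := fun j => ⟨∑ β, a j β • ℓ β, hκmem j⟩
  have hκ'val : ∀ j, ((κ' j : LinearMap.ker g) : L) = ∑ β, a j β • ℓ β := fun j => rfl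
  let col : Fin n → (Fin c → R) := fun β j => a j β
  let C : Submodule R (Fin c → R) := Submodule.span R (Set.range col)
  let em : Fin c → (Fin c → R) ⧸ C :=
    fun j => Submodule.Quotient.mk (fun j' => if j = j' then (1 : R) else 0)
  have hmkexp : ∀ v : Fin c → R,
      (Submodule.Quotient.mk v : (Fin c → R) ⧸ C) = ∑ j, v j • em j := by
    intro v
    have h1 := LinearMap.pi_apply_eq_sum_univ (C.mkQ) v
    simpa only [Submodule.mkQ_apply] using h1
  have hcolzero : ∀ β, ∑ j, a j β • em j = 0 := by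
    intro β
    have h2 : (Submodule.Quotient.mk (col β) : (Fin c → R) ⧸ C) = 0 :=
      (Submodule.Quotient.mk_eq_zero C).2 (Submodule.subset_span ⟨β, rfl⟩)
    rw [← h2]
    exact (hmkexp (col β)).symm
  have hξ : ∑ j, κ' j ⊗ₜ[R] em j = (0 : LinearMap.ker g ⊗[R] ((Fin c → R) ⧸ C)) := by
    apply hpure ((Fin c → R) ⧸ C)
    rw [map_zero]
    simp only [map_sum, LinearMap.rTensor_tmul, Submodule.coe_subtype, hκ'val]
    calc ∑ j, (∑ β, a j β • ℓ β) ⊗ₜ[R] em j
        = ∑ j, ∑ β, ℓ β ⊗ₜ[R] (a j β • em j) := by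
          apply Finset.sum_congr rfl; intro j _
          rw [TensorProduct.sum_tmul]
          apply Finset.sum_congr rfl; intro β _
          rw [TensorProduct.smul_tmul]
      _ = ∑ β, ∑ j, ℓ β ⊗ₜ[R] (a j β • em j) := Finset.sum_comm
      _ = 0 := by
          apply Finset.sum_eq_zero; intro β _
          rw [← TensorProduct.tmul_sum, hcolzero β, TensorProduct.tmul_zero]
  have hspan : Submodule.span R (Set.range em) = ⊤ := by
    rw [eq_top_iff]
    rintro x -
    obtain ⟨v, rfl⟩ := Submodule.Quotient.mk_surjective C x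
    rw [hmkexp v]
    exact Submodule.sum_mem _ (fun j _ => Submodule.smul_mem _ _ (Submodule.subset_span ⟨j, rfl⟩))
  have hξ' : ∑ j, em j ⊗ₜ[R] κ' j = (0 : ((Fin c → R) ⧸ C) ⊗[R] LinearMap.ker g) := by
    have h1 := congrArg (TensorProduct.comm R (LinearMap.ker g) ((Fin c → R) ⧸ C)) hξ
    simpa only [map_sum, TensorProduct.comm_tmul, map_zero] using h1
  obtain ⟨κn, a', zz, hzz1', hzz2⟩ :=
    TensorProduct.vanishesTrivially_of_sum_tmul_eq_zero R hspan hξ'
  have hzz1 : ∀ j, κ' j = ∑ t, a' j t • zz t := hzz1'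
  have hd' : ∀ t, ∃ d : Fin n → R, ∑ β, d β • col β = (fun j => a' j t) := by
    intro t
    apply (Submodule.mem_span_range_iff_exists_fun R).1
    have h1 := hmkexp (fun j => a' j t)
    rw [hzz2 t] at h1
    exact (Submodule.Quotient.mk_eq_zero C).1 h1
  choose d hd using hd'
  have hda : ∀ t j, a' j t = ∑ β, d t β * a j β := by
    intro t j
    have h1 := congrFun (hd t) j
    simp only [Finset.sum_apply, Pi.smul_apply, smul_eq_mul] at h1
    exact h1.symm
  let ℓ' : Fin n → L := fun β => ∑ t, d t β • ((zz t : LinearMap.ker g) : L)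
  have hℓ'def : ∀ β, ℓ' β = ∑ t, d t β • ((zz t : LinearMap.ker g) : L) := fun β => rfl
  have hℓ'ker : ∀ β, g (ℓ' β) = 0 := by
    intro β
    rw [hℓ'def, map_sum]
    apply Finset.sum_eq_zero; intro t _
    rw [map_smul, LinearMap.mem_ker.1 (zz t).2, smul_zero]
  have hℓ'rel : ∀ j, ∑ β, a j β • ℓ' β = ∑ β, a j β • ℓ β := by
    intro j
    have h1 := congrArg Subtype.val (hzz1 j)
    rw [Submodule.coe_sum] at h1
    simp only [Submodule.coe_smul] at h1
    rw [← hκ'val j, h1]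
    simp only [hℓ'def, Finset.smul_sum]
    rw [Finset.sum_comm]
    apply Finset.sum_congr rfl; intro t _
    rw [hda t j, Finset.sum_smul]
    apply Finset.sum_congr rfl; intro β _
    rw [smul_smul, mul_comm]
  let ψ₀ : (Fin n → R) →ₗ[R] L := Fintype.linearCombination R (fun β => ℓ β - ℓ' β)
  have hψ₀ : K₀ ≤ LinearMap.ker ψ₀ := by
    rw [hK₀, Submodule.span_le]
    rintro _ ⟨j, rfl⟩
    change a j ∈ LinearMap.ker ψ₀
    rw [LinearMap.mem_ker, Fintype.linearCombination_apply]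
    simp only [smul_sub, Finset.sum_sub_distrib]
    rw [hℓ'rel j, sub_self]
  refine ⟨K₀.liftQ ψ₀ hψ₀, ?_⟩
  apply LinearMap.ext
  intro x
  obtain ⟨v, rfl⟩ := Submodule.Quotient.mk_surjective K₀ x
  rw [LinearMap.comp_apply, Submodule.liftQ_apply, Fintype.linearCombination_apply, map_sum,
    hφexp v]
  apply Finset.sum_congr rfl; intro β _
  rw [map_smul, map_sub, hℓ'ker β, sub_zero]

lemma fp_lift {F L N : Type u} [AddCommGroup F] [Module R F] [Module.FinitePresentation R F]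
    [AddCommGroup L] [Module R L] [AddCommGroup N] [Module R N]
    (g : L →ₗ[R] N) (hg : Function.Surjective g)
    (hpure : CAlgX.UniversallyInjective R (LinearMap.ker g).subtype)
    (φ : F →ₗ[R] N) : ∃ ψ : F →ₗ[R] L, g ∘ₗ ψ = φ := by
  obtain ⟨n, K, e, hK⟩ := Module.FinitePresentation.exists_fin R F
  obtain ⟨c, a, ha⟩ := (Submodule.fg_iff_exists_fin_generating_family).1 hK
  obtain ⟨ψ, hψ⟩ := fpq_lift g hg hpure a K ha.symm (φ ∘ₗ e.symm.toLinearMap)
  refine ⟨ψ ∘ₗ e.toLinearMap, ?_⟩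
  rw [← LinearMap.comp_assoc, hψ, LinearMap.comp_assoc]
  apply LinearMap.ext
  intro x
  simp

end

theorem pureProjective_iff (R : Type u) [CommRing R] (P : Type u) [AddCommGroup P] [Module R P] :
    (∀ ⦃L N : Type u⦄ [AddCommGroup L] [Module R L] [AddCommGroup N] [Module R N] (g : L →ₗ[R] N),
        Function.Surjective g → CAlgX.UniversallyInjective R (LinearMap.ker g).subtype →
        ∀ φ : P →ₗ[R] N, ∃ ψ : P →ₗ[R] L, g ∘ₗ ψ = φ) ↔
    ∃ (ι : Type u) (Q : ι → Type u) (_ : ∀ i, AddCommGroup (Q i)) (_ : ∀ i, Module R (Q i)),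
      (∀ i, Module.FinitePresentation R (Q i)) ∧
      ∃ (s : P →ₗ[R] (Π₀ i, Q i)) (r : (Π₀ i, Q i) →ₗ[R] P), r ∘ₗ s = LinearMap.id := by
  classical
  constructor
  · intro hPP
    obtain ⟨ι, Q, iA, iM, hfp, g, hg, hpure⟩ := exists_pure_cover R P
    obtain ⟨ψ, hψ⟩ := hPP g hg hpure LinearMap.id
    exact ⟨ι, Q, iA, iM, hfp, ψ, g, hψ⟩
  · rintro ⟨ι, Q, iA, iM, hfp, s, r, hrs⟩ L N _ _ _ _ g hg hpure φ
    have hi : ∀ i, ∃ ψi : Q i →ₗ[R] L, g ∘ₗ ψi = φ ∘ₗ r ∘ₗ DFinsupp.lsingle i := fun i =>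
      fp_lift g hg hpure _
    choose ψi hψi using hi
    refine ⟨DFinsupp.lsum ℕ ψi ∘ₗ s, ?_⟩
    have h1 : g ∘ₗ DFinsupp.lsum ℕ ψi = φ ∘ₗ r := by
      apply DFinsupp.lhom_ext'
      intro i
      apply LinearMap.ext
      intro v
      simp only [LinearMap.comp_apply, DFinsupp.lsingle_apply, DFinsupp.lsum_single]
      exact LinearMap.congr_fun (hψi i) v
    rw [← LinearMap.comp_assoc, h1, LinearMap.comp_assoc, hrs, LinearMap.comp_id]

end Groth.Agent.Helper19.Pure
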