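import Mathlib
import Groth.Agent.Lib.Helper19.Pure.Cover
import Groth.Agent.Lib.Helper19.Pure.Res

universe u
open CategoryTheory

namespace Groth.Agent.Helper19.PureRes

variable {R : Type u} [CommRing R]

/-- a pure cover by a direct sum of finitely presented modules -/
structure PureCover (R : Type u) [CommRing R] (M : Type u) [AddCommGroup M] [Module R M] where
  ι : Type u
  Q : ι → Type u
  [acg : ∀ i, AddCommGroup (Q i)]
  [mod : ∀ i, Module R (Q i)]
  fp : ∀ i, Module.FinitePresentation R (Q i)
  g : (Π₀ i, Q i) →ₗ[R] M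
  surj : Function.Surjective g
  ui : CAlgX.UniversallyInjective R (LinearMap.ker g).subtype

attribute [instance] PureCover.acg PureCover.mod

lemma nonempty_pureCover (M : Type u) [AddCommGroup M] [Module R M] :
    Nonempty (PureCover R M) := by
  obtain ⟨ι, Q, a, m, fp, g, hs, hu⟩ := Groth.Agent.Helper19.Pure.exists_pure_cover R M
  exact ⟨⟨ι, Q, fp, g, hs, hu⟩⟩

/-- a chosen pure cover -/
noncomputable def cover (M : ModuleCat.{u} R) : PureCover R M := (nonempty_pureCover (R := R) M).some

/-- the source of the chosen pure cover -/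
noncomputable def cov (M : ModuleCat.{u} R) : ModuleCat.{u} R :=
  ModuleCat.of R (Π₀ i, (cover M).Q i)

/-- the chosen pure cover map -/
noncomputable def covπ (M : ModuleCat.{u} R) : cov M ⟶ M := ModuleCat.ofHom (cover M).g

/-- the kernel of the chosen coverer -/
noncomputable def syz (M : ModuleCat.{u} R) : ModuleCat.{u} R :=
  ModuleCat.of R (LinearMap.ker (cover M).g)

/-- inclusion of the kernel -/
noncomputable def syzι (M : ModuleCat.{u} R) : syz M ⟶ cov M :=
  ModuleCat.ofHom (LinearMap.ker (cover M).g).subtype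

lemma syzι_covπ (M : ModuleCat.{u} R) : syzι M ≫ covπ M = 0 := by
  ext x
  exact x.2

/-- the iterated syzygies -/
noncomputable def K (M : ModuleCat.{u} R) : ℕ → ModuleCat.{u} R
  | 0 => M
  | n + 1 => syz (K M n)

/-- the differentials -/
noncomputable def dd (M : ModuleCat.{u} R) (n : ℕ) : cov (K M (n + 1)) ⟶ cov (K M n) :=
  covπ (K M (n + 1)) ≫ syzι (K M n)

lemma dd_comp_covπ (M : ModuleCat.{u} R) (n : ℕ) :
    dd M n ≫ covπ (K M n) = 0 := by
  unfold dd
  rw [Category.assoc]
  exact (congrArg (fun t => covπ (K M (n + 1)) ≫ t) (syzι_covπ (K M n))).trans Limits.comp_zero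

lemma dd_sq (M : ModuleCat.{u} R) (n : ℕ) : dd M (n + 1) ≫ dd M n = 0 := by
  have h : dd M (n + 1) ≫ (covπ (K M (n + 1)) ≫ syzι (K M n)) = 0 := by
    rw [← Category.assoc, dd_comp_covπ, Limits.zero_comp]
  exact h

/-- the resolution complex -/
noncomputable def resCx (M : ModuleCat.{u} R) : ChainComplex (ModuleCat.{u} R) ℕ :=
  ChainComplex.of (fun n => cov (K M n)) (dd M) (dd_sq M)

lemma resCx_d (M : ModuleCat.{u} R) (n : ℕ) : (resCx M).d (n + 1) n = dd M n :=
  ChainComplex.of_d (fun n => cov (K M n)) (dd M) n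

/-- the augmentation -/
noncomputable def resπ (M : ModuleCat.{u} R) :
    resCx M ⟶ (ChainComplex.single₀ (ModuleCat.{u} R)).obj M :=
  (ChainComplex.toSingle₀Equiv (resCx M) M).symm ⟨covπ M, by
    have h := dd_comp_covπ M 0
    rw [← resCx_d] at h
    exact h⟩

lemma resπ_f_zero (M : ModuleCat.{u} R) : (resπ M).f 0 = covπ M := rfl

/-- the key exactness lemma -/
lemma exact_key {A K' B C T : Type u} [AddCommGroup A] [Module R A] [AddCommGroup K'] [Module R K']
    [AddCommGroup B] [Module R B] [AddCommGroup C] [Module R C] [AddCommGroup T] [Module R T]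
    (p : A →ₗ[R] K') (hp : Function.Surjective p) (i : K' →ₗ[R] B)
    (hi : Function.Injective (i.rTensor T))
    (q : C →ₗ[R] LinearMap.ker p) (hq : Function.Surjective q) :
    Function.Exact (((LinearMap.ker p).subtype ∘ₗ q).rTensor T) ((i ∘ₗ p).rTensor T) := by
  have h1 : Function.Exact ((LinearMap.ker p).subtype.rTensor T) (p.rTensor T) :=
    rTensor_exact T (LinearMap.exact_subtype_ker_map p) hp
  have hq' : Function.Surjective (q.rTensor T) := LinearMap.rTensor_surjective T hq
  intro y
  rw [LinearMap.rTensor_comp, LinearMap.rTensor_comp]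
  constructor
  · intro hy
    have : p.rTensor T y = 0 := hi (by rw [map_zero]; exact hy)
    obtain ⟨z, hz⟩ := (h1 y).mp this
    obtain ⟨w, rfl⟩ := hq' z
    exact ⟨w, hz⟩
  · rintro ⟨w, rfl⟩
    change i.rTensor T (p.rTensor T ((LinearMap.ker p).subtype.rTensor T (q.rTensor T w))) = 0
    rw [(h1 _).mpr ⟨_, rfl⟩, map_zero]

end Groth.Agent.Helper19.PureRes
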