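import Mathlib
import Groth.Agent.Lib.Helper19.Pure.Res

universe u
open CategoryTheory

namespace Groth.Agent.Helper19.PureRes

variable {R : Type u} [CommRing R]

section chain

variable {N : ModuleCat.{u} R} (N' : ChainComplex (ModuleCat.{u} R) ℕ)
  (ε : N' ⟶ (ChainComplex.single₀ (ModuleCat.{u} R)).obj N)

/-- elementwise form of universal exactness of an augmented chain complex -/
structure UE : Prop where
  succ : ∀ (T : Type u) [AddCommGroup T] [Module R T] (n : ℕ),
    Function.Exact ((N'.d (n + 2) (n + 1)).hom.rTensor T) ((N'.d (n + 1) n).hom.rTensor T)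
  zero : ∀ (T : Type u) [AddCommGroup T] [Module R T],
    Function.Exact ((N'.d 1 0).hom.rTensor T) ((ε.f 0).hom.rTensor T)
  surj : ∀ (T : Type u) [AddCommGroup T] [Module R T],
    Function.Surjective ((ε.f 0).hom.rTensor T)

variable {N'} {ε}

lemma ue_of_quasiIso
    (h : ∀ T : ModuleCat.{u} R, QuasiIso (((MonoidalCategory.tensorRight T).mapHomologicalComplex
      (ComplexShape.down ℕ)).map ε)) : UE N' ε where
  succ T _ _ n := by
    have h1 := (h (ModuleCat.of R T)).quasiIsoAt (n + 1)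
    rw [quasiIsoAt_iff_exactAt' _ _ (by
      apply ShortComplex.exact_of_isZero_X₂
      exact (MonoidalCategory.tensorRight (ModuleCat.of R T)).map_isZero
        (HomologicalComplex.isZero_single_obj_X _ _ _ _ (by simp)))] at h1
    rw [HomologicalComplex.exactAt_iff' _ (n + 2) (n + 1) n (by simp) (by simp)] at h1
    exact (ShortComplex.ShortExact.moduleCat_exact_iff_function_exact _).mp h1
  zero T _ _ := by
    have h0 := (h (ModuleCat.of R T)).quasiIsoAt 0
    rw [ChainComplex.quasiIsoAt₀_iff, ShortComplex.quasiIso_iff_of_zeros'] at h0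
    · exact (ShortComplex.ShortExact.moduleCat_exact_iff_function_exact _).mp h0.1
    · simp
      rfl
    · simp
      exact MonoidalPreadditive.zero_whiskerRight
    · simp
      rfl
  surj T _ _ := by
    have h0 := (h (ModuleCat.of R T)).quasiIsoAt 0
    rw [ChainComplex.quasiIsoAt₀_iff, ShortComplex.quasiIso_iff_of_zeros'] at h0
    · exact (ModuleCat.epi_iff_surjective _).mp h0.2
    · simp
      rfl
    · simp
      exact MonoidalPreadditive.zero_whiskerRight
    · simp
      rfl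

variable (hUE : UE N' ε) {Q : ModuleCat.{u} R} (hQ : PureProj R Q)

include hUE hQ in
lemma lift_base (c : Q ⟶ ((ChainComplex.single₀ (ModuleCat.{u} R)).obj N).X 0) :
    ∃ b : Q ⟶ N'.X 0, b ≫ ε.f 0 = c := by
  obtain ⟨b, hb⟩ := lift hQ (N'.d 2 1).hom (N'.d 1 0).hom (ε.f 0).hom
    (0 : _ →ₗ[R] ((ChainComplex.single₀ (ModuleCat.{u} R)).obj N).X 0)
    (fun T _ _ => hUE.succ T 0) (exact_of_rTensor_self _ _ (hUE.zero R))
    (by
      have hs : Function.Surjective (ε.f 0).hom := surjective_of_rTensor_self _ (hUE.surj R)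
      intro y
      constructor
      · intro _
        exact hs y
      · intro _
        rfl) c.hom (LinearMap.zero_comp _)
  exact ⟨ModuleCat.ofHom b, ModuleCat.hom_ext hb⟩

include hUE hQ in
lemma lift_zero (a : Q ⟶ N'.X 0) (ha : a ≫ ε.f 0 = 0) :
    ∃ b : Q ⟶ N'.X 1, b ≫ N'.d 1 0 = a := by
  obtain ⟨b, hb⟩ := lift hQ (N'.d 3 2).hom (N'.d 2 1).hom (N'.d 1 0).hom (ε.f 0).hom
    (fun T _ _ => hUE.succ T 1) (exact_of_rTensor_self _ _ (hUE.succ R 0))
    (exact_of_rTensor_self _ _ (hUE.zero R)) a.hom (by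
      rw [← ModuleCat.hom_comp, ha]
      rfl)
  exact ⟨ModuleCat.ofHom b, ModuleCat.hom_ext hb⟩

include hUE hQ in
lemma lift_succ (n : ℕ) (a : Q ⟶ N'.X (n + 1)) (ha : a ≫ N'.d (n + 1) n = 0) :
    ∃ b : Q ⟶ N'.X (n + 2), b ≫ N'.d (n + 2) (n + 1) = a := by
  obtain ⟨b, hb⟩ := lift hQ (N'.d (n + 4) (n + 3)).hom (N'.d (n + 3) (n + 2)).hom
    (N'.d (n + 2) (n + 1)).hom (N'.d (n + 1) n).hom
    (fun T _ _ => hUE.succ T (n + 2)) (exact_of_rTensor_self _ _ (hUE.succ R (n + 1)))
    (exact_of_rTensor_self _ _ (hUE.succ R n)) a.hom (by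
      rw [← ModuleCat.hom_comp, ha]
      rfl)
  exact ⟨ModuleCat.ofHom b, ModuleCat.hom_ext hb⟩

end chain

end Groth.Agent.Helper19.PureRes
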