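import Mathlib
import Groth.Agent.Lib.Helper19.Pure.ProjRes
import Groth.Agent.Lib.Helper19.Pure.Res2

universe u
open CategoryTheory

namespace Groth.Agent.Helper19.PureRes

variable {R : Type u} [CommRing R]

lemma res_exact_succ (M : ModuleCat.{u} R) (T : Type u) [AddCommGroup T] [Module R T] (n : ℕ) :
    Function.Exact (((resCx M).d (n + 2) (n + 1)).hom.rTensor T)
      (((resCx M).d (n + 1) n).hom.rTensor T) := by
  rw [resCx_d, resCx_d]
  exact exact_key (cover (K M (n + 1))).g (cover (K M (n + 1))).surj
    (LinearMap.ker (cover (K M n)).g).subtype ((cover (K M n)).ui T)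
    (cover (K M (n + 2))).g (cover (K M (n + 2))).surj

lemma res_exact_zero (M : ModuleCat.{u} R) (T : Type u) [AddCommGroup T] [Module R T] :
    Function.Exact (((resCx M).d 1 0).hom.rTensor T) (((resπ M).f 0).hom.rTensor T) := by
  rw [resCx_d, resπ_f_zero]
  have := exact_key (T := T) (cover M).g (cover M).surj LinearMap.id
    (by rw [LinearMap.rTensor_id]; exact Function.injective_id)
    (cover (K M 1)).g (cover (K M 1)).surj
  rw [LinearMap.id_comp] at this
  exact this

lemma res_surj_zero (M : ModuleCat.{u} R) (T : Type u) [AddCommGroup T] [Module R T] :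
    Function.Surjective (((resπ M).f 0).hom.rTensor T) := by
  rw [resπ_f_zero]
  exact LinearMap.rTensor_surjective T (cover M).surj

/-- converse of `ue_of_quasiIso` -/
lemma quasiIso_of_ue {N : ModuleCat.{u} R} {N' : ChainComplex (ModuleCat.{u} R) ℕ}
    {ε : N' ⟶ (ChainComplex.single₀ (ModuleCat.{u} R)).obj N} (h : UE N' ε)
    (T : ModuleCat.{u} R) :
    QuasiIso (((MonoidalCategory.tensorRight T).mapHomologicalComplex
      (ComplexShape.down ℕ)).map ε) := by
  refine ⟨fun n => ?_⟩
  cases n with
  | zero =>
    rw [ChainComplex.quasiIsoAt₀_iff, ShortComplex.quasiIso_iff_of_zeros']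
    · refine ⟨(ShortComplex.ShortExact.moduleCat_exact_iff_function_exact _).mpr (h.zero T), ?_⟩
      exact (ModuleCat.epi_iff_surjective _).mpr (h.surj T)
    · simp
      rfl
    · simp
      exact MonoidalPreadditive.zero_whiskerRight
    · simp
      rfl
  | succ n =>
    rw [quasiIsoAt_iff_exactAt' _ _ (by
      apply ShortComplex.exact_of_isZero_X₂
      exact (MonoidalCategory.tensorRight T).map_isZero
        (HomologicalComplex.isZero_single_obj_X _ _ _ _ (by simp)))]
    rw [HomologicalComplex.exactAt_iff' _ (n + 2) (n + 1) n (by simp) (by simp)]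
    exact (ShortComplex.ShortExact.moduleCat_exact_iff_function_exact _).mpr (h.succ T n)

lemma ue_res (M : ModuleCat.{u} R) : UE (resCx M) (resπ M) where
  succ T _ _ n := res_exact_succ M T n
  zero T _ _ := res_exact_zero M T
  surj T _ _ := res_surj_zero M T

end Groth.Agent.Helper19.PureRes
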