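import Mathlib
import Groth.Agent.Lib.Helper19.Pure.Res2

universe u
open CategoryTheory

namespace Groth.Agent.Helper19.PureRes

variable {R : Type u} [CommRing R]

section chain

variable {M N : ModuleCat.{u} R} {P N' : ChainComplex (ModuleCat.{u} R) ℕ}
  {ε : N' ⟶ (ChainComplex.single₀ (ModuleCat.{u} R)).obj N}
  (hUE : UE N' ε) (hP : ∀ n, PureProj R (P.X n))

include hUE hP in
theorem exists_chainMap (g : P ⟶ (ChainComplex.single₀ (ModuleCat.{u} R)).obj N) :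
    ∃ φ : P ⟶ N', φ ≫ ε = g := by
  obtain ⟨z, hz⟩ := lift_base hUE (hP 0) (g.f 0)
  obtain ⟨o, ho⟩ := lift_zero hUE (hP 1) (P.d 1 0 ≫ z) (by
    rw [Category.assoc, hz, ← g.comm 1 0]
    simp only [ChainComplex.single₀_obj_zero, HomologicalComplex.single_obj_d]
    exact Limits.comp_zero)
  have hsucc : ∀ (n : ℕ) (p : Σ' (f : P.X n ⟶ N'.X n) (f' : P.X (n + 1) ⟶ N'.X (n + 1)),
      f' ≫ N'.d (n + 1) n = P.d (n + 1) n ≫ f),
      ∃ f'' : P.X (n + 2) ⟶ N'.X (n + 2),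
        f'' ≫ N'.d (n + 2) (n + 1) = P.d (n + 2) (n + 1) ≫ p.2.1 := fun n p =>
    lift_succ hUE (hP (n + 2)) n (P.d (n + 2) (n + 1) ≫ p.2.1) (by
      rw [Category.assoc, p.2.2, ← Category.assoc, P.d_comp_d, Limits.zero_comp])
  refine ⟨ChainComplex.mkHom P N' z o ho
    (fun n p => ⟨(hsucc n p).choose, (hsucc n p).choose_spec⟩), ?_⟩
  apply HomologicalComplex.to_single_hom_ext
  rw [HomologicalComplex.comp_f, ChainComplex.mkHom_f_0, hz]

include hUE hP in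
theorem exists_homotopy_zero (e : P ⟶ N') (he : e ≫ ε = 0) : Nonempty (Homotopy e 0) := by
  obtain ⟨z, hz⟩ := lift_zero hUE (hP 0) (e.f 0) (by
    rw [← HomologicalComplex.comp_f, he]
    rfl)
  obtain ⟨o, ho⟩ := lift_succ hUE (hP 1) 0 (e.f 1 - P.d 1 0 ≫ z) (by
    rw [Preadditive.sub_comp, Category.assoc, hz, e.comm 1 0, sub_self])
  have hsucc : ∀ (n : ℕ) (p : Σ' (f : P.X n ⟶ N'.X (n + 1)) (f' : P.X (n + 1) ⟶ N'.X (n + 2)),
        e.f (n + 1) = P.d (n + 1) n ≫ f + f' ≫ N'.d (n + 2) (n + 1)),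
      ∃ f'' : P.X (n + 2) ⟶ N'.X (n + 3),
        e.f (n + 2) = P.d (n + 2) (n + 1) ≫ p.2.1 + f'' ≫ N'.d (n + 3) (n + 2) := by
    rintro n ⟨p1, p2, p3⟩
    obtain ⟨f'', hf''⟩ := lift_succ hUE (hP (n + 2)) (n + 1)
      (e.f (n + 2) - P.d (n + 2) (n + 1) ≫ p2) (by
        have h1 : p2 ≫ N'.d (n + 2) (n + 1) = e.f (n + 1) - P.d (n + 1) n ≫ p1 := by
          rw [p3]
          abel
        rw [Preadditive.sub_comp, Category.assoc, h1, Preadditive.comp_sub, ← Category.assoc,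
          P.d_comp_d, Limits.zero_comp, sub_zero, e.comm (n + 2) (n + 1), sub_self])
    refine ⟨f'', ?_⟩
    rw [hf'']
    abel
  exact ⟨Homotopy.mkInductive e z hz.symm o (by rw [ho]; abel)
    (fun n p => ⟨(hsucc n p).choose, (hsucc n p).choose_spec⟩)⟩

include hUE hP in
theorem exists_homotopy (α β : P ⟶ N') (h : α ≫ ε = β ≫ ε) : Nonempty (Homotopy α β) := by
  obtain ⟨H⟩ := exists_homotopy_zero hUE hP (α - β) (by
    rw [Preadditive.sub_comp, h, sub_self])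
  exact ⟨Homotopy.equivSubZero.symm H⟩

end chain

end Groth.Agent.Helper19.PureRes
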